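import Mathlib.AlgebraicGeometry.Morphisms.Separated
import Mathlib.AlgebraicGeometry.Morphisms.Immersion

/-! # Sections over a field are closed immersions. -/

set_option autoImplicit false
set_option linter.style.haveILetI false
universe u

open CategoryTheory AlgebraicGeometry

namespace Groth.Agent.GrpdB

theorem isClosedImmersion_of_section {k : Type u} [Field k] {X : Scheme.{u}}
    (p : X ⟶ Spec (CommRingCat.of k)) (e : Spec (CommRingCat.of k) ⟶ X) (h : e ≫ p = 𝟙 _) :
    IsClosedImmersion e := by
  haveI : IsImmersion (e ≫ p) := by rw [h]; infer_instance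
  haveI : IsImmersion e := IsImmersion.of_comp e p
  refine IsClosedImmersion.of_isPreimmersion e (isClosed_of_closure_subset fun y hy => ?_)
  obtain ⟨U, hU, hyU, -⟩ := exists_isAffineOpen_mem_and_subset (show y ∈ (⊤ : X.Opens) from trivial)
  have hsub : Set.range e ⊆ Set.range U.ι := by
    obtain ⟨_, hzU, ⟨w, rfl⟩⟩ := mem_closure_iff.1 hy U U.2 hyU
    rintro _ ⟨w', rfl⟩
    rw [Scheme.Opens.range_ι, show w' = w from Subsingleton.elim (α := Spec (CommRingCat.of k)) _ _]
    exact hzU
  haveI : IsAffine U := hU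
  haveI : IsSeparated (U.ι ≫ p) := inferInstance
  let e' := IsOpenImmersion.lift U.ι e hsub
  have he : e' ≫ U.ι = e := IsOpenImmersion.lift_fac _ _ _
  haveI : IsClosedImmersion (e' ≫ U.ι ≫ p) := by
    rw [← Category.assoc, he, h]; infer_instance
  haveI : IsClosedImmersion e' := IsClosedImmersion.of_comp e' (U.ι ≫ p)
  have hcl : (⟨y, hyU⟩ : U) ∈ closure (Set.range e') := by
    rw [U.ι.isOpenEmbedding.isInducing.closure_eq_preimage_closure_image, ← Set.range_comp]
    have : Set.range (U.ι ∘ e') = Set.range e := congrArg (fun m : _ ⟶ X => Set.range m) he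
    rw [this]
    exact hy
  rw [e'.isClosedEmbedding.isClosed_range.closure_eq] at hcl
  obtain ⟨w, hw⟩ := hcl
  exact ⟨w, by rw [← he, Scheme.Hom.comp_apply, hw]; rfl⟩

end Groth.Agent.GrpdB
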