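import Groth.Prelude.Def_Grpd

/-! # Calculus of composition in a groupoid scheme. -/

set_option autoImplicit false
universe u

open CategoryTheory CategoryTheory.Limits AlgebraicGeometry

noncomputable section

namespace Groth.Agent.GrpdB

variable {S : Scheme.{u}} (G : Grpd.GroupoidScheme S) {T T' : Scheme.{u}}

/-- The composite of two composable `T`-points. -/
def cmp (α β : T ⟶ G.R) (h : α ≫ G.s = β ≫ G.t) : T ⟶ G.R := pullback.lift α β h ≫ G.c

variable {G}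

theorem cmp_s (α β : T ⟶ G.R) (h : α ≫ G.s = β ≫ G.t) : cmp G α β h ≫ G.s = β ≫ G.s := G.comp_s α β h

theorem cmp_t (α β : T ⟶ G.R) (h : α ≫ G.s = β ≫ G.t) : cmp G α β h ≫ G.t = α ≫ G.t := G.comp_t α β h

theorem comp_cmp (f : T' ⟶ T) (α β : T ⟶ G.R) (h : α ≫ G.s = β ≫ G.t) :
    f ≫ cmp G α β h = cmp G (f ≫ α) (f ≫ β) (by rw [Category.assoc, Category.assoc, h]) := by
  rw [cmp, cmp, ← Category.assoc]
  congr 1
  apply pullback.hom_ext
  · rw [Category.assoc, pullback.lift_fst, pullback.lift_fst]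
  · rw [Category.assoc, pullback.lift_snd, pullback.lift_snd]

theorem cmp_congr {α α' β β' : T ⟶ G.R} (hα : α = α') (hβ : β = β') (h : α ≫ G.s = β ≫ G.t) :
    cmp G α β h = cmp G α' β' (hα ▸ hβ ▸ h) := by
  subst hα hβ; rfl

theorem cmp_assoc (α β γ : T ⟶ G.R) (h₁ : α ≫ G.s = β ≫ G.t) (h₂ : β ≫ G.s = γ ≫ G.t) :
    cmp G (cmp G α β h₁) γ ((cmp_s α β h₁).trans h₂) =
      cmp G α (cmp G β γ h₂) (h₁.trans (cmp_t β γ h₂).symm) := G.assoc α β γ h₁ h₂

/-- The inverse arrow. -/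
abbrev inv' (α : T ⟶ G.R) : T ⟶ G.R := α ≫ G.i

theorem inv_s (α : T ⟶ G.R) : inv' α ≫ G.s = α ≫ G.t := by rw [Category.assoc, G.i_s]
theorem inv_t (α : T ⟶ G.R) : inv' α ≫ G.t = α ≫ G.s := by rw [Category.assoc, G.i_t]

theorem id_cmp' (α : T ⟶ G.R) (u : T ⟶ G.U) (h : (u ≫ G.e) ≫ G.s = α ≫ G.t) : cmp G (u ≫ G.e) α h = α := by
  have hu : u = α ≫ G.t := by simpa [G.e_s] using h
  subst hu
  exact (cmp_congr (Category.assoc _ _ _) rfl h).trans (G.e_comp α)

theorem cmp_id' (α : T ⟶ G.R) (u : T ⟶ G.U) (h : α ≫ G.s = (u ≫ G.e) ≫ G.t) : cmp G α (u ≫ G.e) h = α := by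
  have hu : u = α ≫ G.s := by simpa [G.e_t] using h.symm
  subst hu
  exact (cmp_congr rfl (Category.assoc _ _ _) h).trans (G.comp_e α)

theorem cancel_left (α β : T ⟶ G.R) (h : α ≫ G.s = β ≫ G.t) :
    cmp G (inv' α) (cmp G α β h) ((inv_s α).trans (cmp_t α β h).symm) = β := by
  rw [← cmp_assoc (inv' α) α β (inv_s α) h]
  refine (cmp_congr ((G.i_comp α).trans (Category.assoc _ _ _).symm) rfl _).trans ?_
  exact id_cmp' _ _ _

theorem cancel_left' (α γ : T ⟶ G.R) (h : α ≫ G.t = γ ≫ G.t) :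
    cmp G α (cmp G (inv' α) γ ((inv_s α).trans h)) ((inv_t α).symm.trans (cmp_t _ γ _).symm) = γ := by
  rw [← cmp_assoc α (inv' α) γ (inv_t α).symm ((inv_s α).trans h)]
  refine (cmp_congr ((G.comp_i α).trans (Category.assoc _ _ _).symm) rfl _).trans ?_
  exact id_cmp' _ _ _

theorem cancel_right (α β : T ⟶ G.R) (h : α ≫ G.s = β ≫ G.t) :
    cmp G (cmp G α β h) (inv' β) ((cmp_s α β h).trans (inv_t β).symm) = α := by
  rw [cmp_assoc α β (inv' β) h (inv_t β).symm]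
  refine (cmp_congr rfl ((G.comp_i β).trans (Category.assoc _ _ _).symm) _).trans ?_
  exact cmp_id' _ _ _

theorem cancel_right' (γ β : T ⟶ G.R) (h : γ ≫ G.s = β ≫ G.s) :
    cmp G (cmp G γ (inv' β) (h.trans (inv_t β).symm)) β ((cmp_s _ _ _).trans (inv_s β)) = γ := by
  rw [cmp_assoc γ (inv' β) β (h.trans (inv_t β).symm) (inv_s β)]
  refine (cmp_congr rfl ((G.i_comp β).trans (Category.assoc _ _ _).symm) _).trans ?_
  exact cmp_id' _ _ _

/-- Points of `pullback s t` compose. -/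
theorem exists_comp_point (x y : G.R) (h : G.s x = G.t y) : ∃ z : G.R, G.t z = G.t x ∧ G.s z = G.s y := by
  obtain ⟨p, hp₁, hp₂⟩ := Scheme.Pullback.exists_preimage_pullback x y h
  have e : G.c = pullback.lift (pullback.fst G.s G.t) (pullback.snd G.s G.t) pullback.condition ≫ G.c := by
    rw [show pullback.lift (pullback.fst G.s G.t) (pullback.snd G.s G.t) pullback.condition = 𝟙 _ by
      apply pullback.hom_ext <;> simp, Category.id_comp]
  refine ⟨G.c p, ?_, ?_⟩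
  · rw [← Scheme.Hom.comp_apply, e, G.comp_t, Scheme.Hom.comp_apply, hp₁]
  · rw [← Scheme.Hom.comp_apply, e, G.comp_s, Scheme.Hom.comp_apply, hp₂]

theorem t_i (x : G.R) : G.t (G.i x) = G.s x := by rw [← Scheme.Hom.comp_apply, G.i_t]
theorem s_i (x : G.R) : G.s (G.i x) = G.t x := by rw [← Scheme.Hom.comp_apply, G.i_s]
theorem t_e (u : G.U) : G.t (G.e u) = u := by rw [← Scheme.Hom.comp_apply, G.e_t]; rfl
theorem s_e (u : G.U) : G.s (G.e u) = u := by rw [← Scheme.Hom.comp_apply, G.e_s]; rfl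

/-- The saturation of a set of objects is invariant. -/
theorem saturation_invariant (W : Set G.U) : G.s ⁻¹' (G.t '' (G.s ⁻¹' W)) = G.t ⁻¹' (G.t '' (G.s ⁻¹' W)) := by
  ext x
  constructor
  · rintro ⟨r, hr, hrx⟩
    obtain ⟨z, h1, h2⟩ := exists_comp_point x r hrx.symm
    exact ⟨z, show G.s z ∈ W by rwa [h2], h1⟩
  · rintro ⟨r, hr, hrx⟩
    obtain ⟨z, h1, h2⟩ := exists_comp_point (G.i x) r (by rw [s_i, hrx])
    exact ⟨z, show G.s z ∈ W by rwa [h2], by rw [h1, t_i]⟩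

theorem subset_saturation (W : Set G.U) : W ⊆ G.t '' (G.s ⁻¹' W) :=
  fun u hu => ⟨G.e u, show G.s (G.e u) ∈ W by rwa [s_e], t_e u⟩

theorem j_fst : G.j ≫ pullback.fst G.pU G.pU = G.t := pullback.lift_fst _ _ _
theorem j_snd : G.j ≫ pullback.snd G.pU G.pU = G.s := pullback.lift_snd _ _ _
theorem diag_fst : G.diag ≫ pullback.fst G.pU G.pU = 𝟙 G.U := pullback.lift_fst _ _ _
theorem diag_snd : G.diag ≫ pullback.snd G.pU G.pU = 𝟙 G.U := pullback.lift_snd _ _ _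

theorem lift_cond {T : Scheme.{u}} (g : T ⟶ G.R) (u : T ⟶ G.U) (ht : g ≫ G.t = u) (hs : g ≫ G.s = u) :
    g ≫ G.j = u ≫ G.diag := by
  apply pullback.hom_ext
  · rw [Category.assoc, Category.assoc, j_fst, diag_fst, Category.comp_id, ht]
  · rw [Category.assoc, Category.assoc, j_snd, diag_snd, Category.comp_id, hs]

theorem t_eq_of_comp_j {T : Scheme.{u}} {a b : T ⟶ G.R} (h : a ≫ G.j = b ≫ G.j) : a ≫ G.t = b ≫ G.t := by
  simpa only [Category.assoc, j_fst] using congrArg (· ≫ pullback.fst G.pU G.pU) h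

theorem s_eq_of_comp_j {T : Scheme.{u}} {a b : T ⟶ G.R} (h : a ≫ G.j = b ≫ G.j) : a ≫ G.s = b ≫ G.s := by
  simpa only [Category.assoc, j_snd] using congrArg (· ≫ pullback.snd G.pU G.pU) h

end Groth.Agent.GrpdB
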