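import Mathlib.AlgebraicGeometry.Morphisms.QuasiCompact
import Mathlib.AlgebraicGeometry.Morphisms.UniversallyOpen
import Mathlib.RingTheory.Spectrum.Prime.Topology

/-! # Closures of images under quasi-compact maps, sets stable under generalisation. -/

set_option autoImplicit false
set_option linter.style.haveILetI false
universe u

open CategoryTheory AlgebraicGeometry Topology TopologicalSpace

namespace Groth.Agent.GrpdB

theorem exists_mem_specializes_of_affine {X Y : Scheme.{u}} [IsAffine X] [IsAffine Y] (f : X ⟶ Y) {C : Set X}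
    (hC : IsClosed C) {y : Y} (hy : y ∈ closure (f '' C)) : ∃ x ∈ C, f x ⤳ y := by
  set φ := f.appTop with hφ
  have hsq : ∀ x, (Y.isoSpec.hom) (f x) = PrimeSpectrum.comap φ.hom (X.isoSpec.hom x) := by
    intro x
    have h := Scheme.isoSpec_hom_naturality f
    exact (congrArg (fun m : X ⟶ Spec Γ(Y, ⊤) => m x) h).symm
  let eX : X ≃ₜ PrimeSpectrum Γ(X, ⊤) := X.isoSpec.hom.homeomorph
  let eY : Y ≃ₜ PrimeSpectrum Γ(Y, ⊤) := Y.isoSpec.hom.homeomorph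
  have hX : ∀ x, eX x = X.isoSpec.hom x := fun _ => rfl
  have hY : ∀ x, eY x = Y.isoSpec.hom x := fun _ => rfl
  obtain ⟨I, hI⟩ := (PrimeSpectrum.isClosed_iff_zeroLocus_ideal _).1 (eX.isClosed_image.2 hC)
  have hy' : eY y ∈ closure (PrimeSpectrum.comap φ.hom '' PrimeSpectrum.zeroLocus (I : Set Γ(X, ⊤))) := by
    rw [← hI, Set.image_image]
    have : (fun x => PrimeSpectrum.comap φ.hom (eX x)) = fun x => eY (f x) := funext fun x => (hsq x).symm
    rw [this, ← Set.image_image eY f, ← eY.image_closure]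
    exact ⟨y, hy, rfl⟩
  rw [PrimeSpectrum.closure_image_comap_zeroLocus] at hy'
  haveI := (eY y).isPrime
  obtain ⟨q, hq₁, hq₂⟩ := Ideal.exists_minimalPrimes_le (I := I.comap φ.hom) (J := (eY y).asIdeal) hy'
  obtain ⟨p', hp', hp'', hp₃⟩ := Ideal.exists_comap_eq_of_mem_minimalPrimes φ.hom _ hq₁
  have hmem : (⟨p', hp'⟩ : PrimeSpectrum Γ(X, ⊤)) ∈ eX '' C := by
    rw [hI]
    exact hp''
  obtain ⟨x, hxC, hx⟩ := hmem
  refine ⟨x, hxC, (eY.isInducing.specializes_iff).1 ?_⟩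
  rw [hY, hsq, ← hX, hx]
  refine (PrimeSpectrum.le_iff_specializes _ _).1 ?_
  show Ideal.comap φ.hom p' ≤ _
  rw [hp₃]
  exact hq₂

theorem exists_specializes_of_mem_closure_image {X Y : Scheme.{u}} (f : X ⟶ Y) [QuasiCompact f] {C : Set X}
    (hC : IsClosed C) {y : Y} (hy : y ∈ closure (f '' C)) : ∃ x ∈ C, f x ⤳ y := by
  obtain ⟨U, hU, hyU, -⟩ := exists_isAffineOpen_mem_and_subset (show y ∈ (⊤ : Y.Opens) from trivial)
  have hc := f.isCompact_preimage hU.isCompact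
  obtain ⟨s, hs, hsU⟩ := isCompact_and_isOpen_iff_finite_and_eq_biUnion_affineOpens.1 ⟨hc, (f ⁻¹ᵁ U).2⟩
  have hy2 : y ∈ closure (f '' C ∩ U) := closure_mono (Set.inter_comm _ _).subset (U.2.inter_closure ⟨hyU, hy⟩)
  have hsub : f '' C ∩ U ⊆ ⋃ V ∈ s, f '' (C ∩ ((V : X.Opens) : Set X)) := by
    rintro _ ⟨⟨x, hx, rfl⟩, hxU⟩
    have : x ∈ (f ⁻¹ᵁ U : Set X) := hxU
    rw [hsU] at this
    obtain ⟨V, hV, hxV⟩ := Set.mem_iUnion₂.1 this
    exact Set.mem_biUnion hV ⟨x, ⟨hx, hxV⟩, rfl⟩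
  have hy3 := closure_mono hsub hy2
  rw [hs.closure_biUnion] at hy3
  obtain ⟨V, hV, hyV⟩ := Set.mem_iUnion₂.1 hy3
  have hVU : (V : X.Opens) ≤ f ⁻¹ᵁ U := fun x hx => by
    show x ∈ (f ⁻¹ᵁ U : Set X)
    rw [hsU]
    exact Set.mem_biUnion hV hx
  haveI := V.2
  haveI : IsAffine U := hU
  let g : (V : X.Opens).toScheme ⟶ U.toScheme := f.resLE U V hVU
  have hg : ∀ x, (U.ι (g x) : Y) = f ((V : X.Opens).ι x) := fun x => by
    rw [← Scheme.Hom.comp_apply, ← Scheme.Hom.comp_apply, Scheme.Hom.resLE_comp_ι]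
  have hmem : (⟨y, hyU⟩ : U) ∈ closure (g '' ((V : X.Opens).ι ⁻¹' C)) := by
    rw [U.ι.isOpenEmbedding.isInducing.closure_eq_preimage_closure_image]
    refine closure_mono ?_ hyV
    rintro _ ⟨x, ⟨hxC, hxV⟩, rfl⟩
    exact ⟨g ⟨x, hxV⟩, ⟨⟨x, hxV⟩, hxC, rfl⟩, hg _⟩
  obtain ⟨x, hx, hxy⟩ := exists_mem_specializes_of_affine g (hC.preimage (V : X.Opens).ι.continuous) hmem
  refine ⟨(V : X.Opens).ι x, hx, ?_⟩
  rw [← hg]
  exact hxy.map U.ι.continuous

/-- A compact set stable under generalisation is an intersection of compact opens. -/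
theorem exists_iInter_eq {X : Scheme.{u}} {T : Set X} (hT : IsCompact T)
    (hg : ∀ x y : X, x ⤳ y → y ∈ T → x ∈ T) :
    ∃ (J : Type u) (_ : Nonempty J) (V : J → X.Opens), (∀ j, IsCompact (V j : Set X)) ∧
      T = ⋂ j, (V j : Set X) := by
  have key : ∀ (P : X → Set X), (∀ y ∈ T, y ∈ P y ∧ IsOpen (P y)) →
      ∃ V : X.Opens, IsCompact (V : Set X) ∧ T ⊆ V ∧ (V : Set X) ⊆ ⋃ y ∈ T, P y := by
    intro P hP
    have : ∀ y ∈ T, ∃ U : X.Opens, IsAffineOpen U ∧ y ∈ U ∧ (U : Set X) ⊆ P y := by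
      intro y hy
      obtain ⟨U, hU, hyU, hUP⟩ := exists_isAffineOpen_mem_and_subset
        (show y ∈ (⟨P y, (hP y hy).2⟩ : X.Opens) from (hP y hy).1)
      exact ⟨U, hU, hyU, hUP⟩
    choose U hU hyU hUP using this
    obtain ⟨t, ht⟩ := hT.elim_finite_subcover (fun y : T => (U y y.2 : Set X)) (fun y => (U y y.2).2)
      fun y hy => Set.mem_iUnion.2 ⟨⟨y, hy⟩, hyU y hy⟩
    refine ⟨⟨⋃ y ∈ t, (U y.1 y.2 : Set X), isOpen_biUnion fun y _ => (U y.1 y.2).2⟩,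
      t.finite_toSet.isCompact_biUnion fun y _ => (hU y.1 y.2).isCompact, ht, ?_⟩
    exact Set.iUnion₂_subset fun y _ => (hUP y.1 y.2).trans (Set.subset_biUnion_of_mem (u := P) y.2)
  obtain ⟨V₀, hV₀, hTV₀, -⟩ := key (fun _ => Set.univ) fun y _ => ⟨trivial, isOpen_univ⟩
  refine ⟨{V : X.Opens // IsCompact (V : Set X) ∧ T ⊆ V}, ⟨⟨V₀, hV₀, hTV₀⟩⟩, Subtype.val, fun j => j.2.1,
    (Set.subset_iInter fun j => j.2.2).antisymm fun x hx => ?_⟩
  by_contra hxT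
  have : ∀ y ∈ T, ∃ P : Set X, y ∈ P ∧ IsOpen P ∧ x ∉ P := by
    intro y hy
    have h : ¬ x ⤳ y := fun h => hxT (hg x y h hy)
    rw [specializes_iff_forall_open] at h
    push Not at h
    obtain ⟨P, hP, hyP, hxP⟩ := h
    exact ⟨P, hyP, hP, hxP⟩
  choose P hyP hP hxP using this
  classical
  obtain ⟨V, hV, hTV, hVP⟩ := key (fun y => if hy : y ∈ T then P y hy else ∅)
    fun y hy => by simp only [dif_pos hy]; exact ⟨hyP y hy, hP y hy⟩
  obtain ⟨y, hy, hxy⟩ := Set.mem_iUnion₂.1 (hVP (Set.mem_iInter.1 hx ⟨V, hV, hTV⟩))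
  rw [dif_pos hy] at hxy
  exact hxP y hy hxy

end Groth.Agent.GrpdB
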